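import Cfsg.Agent.H724.VO.Minus

/-!
# The row of `PΩ⁻_{2l+2}(q)` (helper724, S4987)
-/

set_option autoImplicit false

open Cfsg

namespace Cfsg.Agent.H724.VO

open Cfsg.Agent.Characters Subgroup Cfsg.Agent.H620 Cfsg.Agent.H477.HC Cfsg.Agent.H387.VO
open Cfsg.Agent.H423.PG Cfsg.Agent.H423.PGPerf Cfsg.Agent.H423.PGOrth Cfsg.Agent.H423.PGOrthS
open Cfsg.Agent.H484.SylNorm

universe u

theorem Zs.dvd_succ {q e p j : ℕ} (h : Zs q 1 e p) (h2 : p ∣ q ^ j + 1) : e ∣ 2 * j ∧ (0 < q → ¬ e ∣ j) := by
  have h3 : q ^ (2 * j) - 1 = (q ^ j + 1) * (q ^ j - 1) := sq_sub _ _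
  refine ⟨(h.iff _).1 (by rw [h3]; exact Dvd.dvd.mul_right h2 _), fun hq h4 => ?_⟩
  rw [← h.iff] at h4
  have h6 : q ^ j + 1 = (q ^ j - 1) + 2 := by
    have : 1 ≤ q ^ j := Nat.one_le_pow _ _ (by omega)
    omega
  rw [h6] at h2
  have h5 : p ∣ 2 := (Nat.dvd_add_right h4).1 h2
  have := Nat.le_of_dvd two_pos h5
  have := h.five
  omega

/-- a primitive prime divisor -/
theorem exists_zs_one {F : Type*} [Field F] [Fintype F] {e : ℕ} (he : 3 ≤ e) (h : Odd e ∨ Fintype.card F ≠ 2) :
    ∃ s, Zs (Fintype.card F) 1 e s := by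
  obtain ⟨r, f, hr, hf, hF⟩ := Cfsg.Agent.H484.SylNorm.exists_card F
  have key : (∃ s, Zs (r ^ f) f e s) → ∃ s, Zs (Fintype.card F) 1 e s := by
    rintro ⟨s, hs⟩
    rw [hF]
    exact ⟨s, hs.prime, hs.five, fun h => hs.prime.one_lt.ne' (Nat.dvd_one.1 h), hs.iff⟩
  have h3 : e ≤ f * e := Nat.le_mul_of_pos_left _ hf
  by_cases h6 : r = 2 ∧ f * e = 6
  · obtain ⟨rfl, h6⟩ := h6
    have hfe : (f = 1 ∧ e = 6) ∨ (f = 2 ∧ e = 3) := by
      have h7 : e ∣ 6 := Dvd.intro_left _ h6
      have h8 : e ≤ 6 := Nat.le_of_dvd (by norm_num) h7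
      interval_cases e
      · right; omega
      · omega
      · omega
      · left; omega
    rcases hfe with ⟨rfl, rfl⟩ | ⟨rfl, rfl⟩
    · rw [pow_one] at hF
      rcases h with h | h
      · exact absurd h (by decide)
      · exact absurd hF h
    · refine ⟨7, by norm_num, by norm_num, by norm_num, fun j => ?_⟩
      rw [hF, Cfsg.Agent.Lib.Zsigmondy.dvd_pow_sub_one_iff (by norm_num)]
      have : Fact (Nat.Prime 3) := ⟨Nat.prime_three⟩
      have h7 : orderOf (((2 ^ 2 : ℕ)) : ZMod 7) = 3 := by
        apply orderOf_eq_prime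
        · decide
        · decide
      rw [h7]
  · exact key (exists_zs hr hf (by omega) h6)

section
variable {F : Type u} [Field F] [Fintype F] {c : ℕ} [hc : Fact c.Prime] [CharP F c]

include hc in
theorem Zs.ne_char {e s : ℕ} (he : 0 < e) (hs : Zs (Fintype.card F) 1 e s) : s ≠ c := by
  rintro rfl
  have h1 : s ∣ Fintype.card F ^ e - 1 := (hs.iff _).2 dvd_rfl
  have h2 : s ∣ Fintype.card F := by
    rw [← Nat.card_eq_fintype_card]
    obtain ⟨w, hw⟩ := card_pow F s
    rw [hw]
    refine dvd_pow_self s ?_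
    rintro rfl
    have h3 : 1 < Nat.card F := Finite.one_lt_card
    rw [hw, pow_zero] at h3
    exact lt_irrefl _ h3
  have h3 : s ∣ Fintype.card F ^ e := dvd_pow h2 (by omega)
  have h4 : 1 ≤ Fintype.card F ^ e := Nat.one_le_pow _ _ Fintype.card_pos
  have h5 : s ∣ 1 := by
    have := (Nat.dvd_sub h3 h1)
    rwa [Nat.sub_sub_self h4] at this
  exact hs.prime.one_lt.ne' (Nat.dvd_one.1 h5)

theorem model_minus (a b : F) (hab : ∀ z₁ z₂ : F, z₁ ^ 2 + a * z₁ * z₂ + b * z₂ ^ 2 = 0 → z₁ = 0 ∧ z₂ = 0)
    {l : ℕ} (hl : 3 ≤ l) (hk : Kill (POmega F (quadFormMinus l F a b)) c)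
    {p : ℕ} [hp : Fact p.Prime] (h5 : 5 ≤ p) (hpc : p ≠ c) (hd : p ^ 2 ∣ Nat.card (POmega F (quadFormMinus l F a b))) :
    TwoVan p (POmega F (quadFormMinus l F a b)) := by
  have hcq : ¬ p ∣ Fintype.card F := by
    rw [← Nat.card_eq_fintype_card]; exact ne_card F (p := c) hp.out hpc
  have hq0 : 0 < Fintype.card F := Fintype.card_pos
  have hq1 : 1 < Fintype.card F := Fintype.one_lt_card
  obtain ⟨e, he0, hedef, he⟩ := zs_of h5 hcq
  have hp2 : p ≠ 2 := by omega
  have hpodd : Odd p := hp.out.odd_of_ne_two hp2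
  have hpd : p ∣ Nat.card (POmega F (quadFormMinus l F a b)) := (dvd_pow_self p two_ne_zero).trans hd
  have hpprod : p ^ 2 ∣ (Fintype.card F ^ (l + 1) + 1) * ∏ i ∈ Finset.range l, (Fintype.card F ^ (2 * (i + 1)) - 1) := by
    have h1 := S0288.result (F := F) rfl (l + 1) (by omega) a b hab
    rw [Nat.add_sub_cancel] at h1
    have h2 := hd.trans (card_pomega_dvd (quadFormMinus l F a b))
    rw [h1, mul_assoc] at h2
    refine pow_dvd_right hp.out h2 fun h => ?_
    rcases hp.out.dvd_mul.1 h with h' | h'
    · exact hp2 ((Nat.prime_dvd_prime_iff_eq hp.out Nat.prime_two).1 h')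
    · exact hcq (hp.out.dvd_of_dvd_pow h')
  -- products of order `p c`
  have hodc : ∀ {x y : ℕ}, x = p → y = c → Odd (x * y) ∨ (2 : F) = 0 := by
    rintro x y rfl rfl
    by_cases hc2 : y = 2
    · right
      subst hc2
      have := CharP.cast_eq_zero F 2
      exact_mod_cast this
    · left
      exact hpodd.mul (hc.out.odd_of_ne_two hc2)
  have hfin : ∀ {x y : POmega F (quadFormMinus l F a b)} {s : ℕ}, s.Prime → s ≠ c → p ∣ orderOf x →
      orderOf x = p * c → orderOf y = p * s → Kill (POmega F (quadFormMinus l F a b)) s →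
      TwoVan p (POmega F (quadFormMinus l F a b)) := by
    intro x y s hs hsc _ hx hy hks
    refine TwoVan.of_order (x := x) (y := y) (by rw [hx]; exact dvd_mul_right _ _) (by rw [hy]; exact dvd_mul_right _ _)
      (hk.vz (by rw [hx]; exact dvd_mul_left _ _)) (hks.vz (by rw [hy]; exact dvd_mul_left _ _)) ?_
    rw [hx, hy]
    intro h
    exact hsc (Nat.eq_of_mul_eq_mul_left hp.out.pos h).symm
  by_cases he2 : e ≤ 2
  · -- `p ∣ q² - 1`
    have hpq : p ∣ Fintype.card F ^ 2 - 1 := by
      rw [he.iff]
      have : e = 1 ∨ e = 2 := by omega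
      rcases this with rfl | rfl <;> norm_num
    have hq2 : Fintype.card F ≠ 2 := by
      intro h
      rw [h] at hpq
      have := Nat.le_of_dvd (by norm_num) hpq
      norm_num at this
      omega
    obtain ⟨s, hs⟩ := exists_zs_one (F := F) (e := 2 * (l - 1)) (by omega) (Or.inr hq2)
    have hsf : Fact s.Prime := ⟨hs.prime⟩
    have hs5 := hs.five
    have hsc : s ≠ c := Zs.ne_char (F := F) (by omega) hs
    have hsp : s ≠ p := by
      rintro rfl
      have h1 := (hs.iff 2).1 hpq
      have := Nat.le_of_dvd (by omega) h1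
      omega
    have hks : Kill (POmega F (quadFormMinus l F a b)) s := by
      refine kill_minus F (c := c) a b hab (k := l) (n := 0) rfl hl (by omega) (fun _ => hl) (fun _ h => by omega)
        (by omega) hsc ?_ (fun i hi => absurd hi (by omega)) ?_
      · rw [Nat.card_eq_fintype_card, hs.iff]
        intro h
        have := Nat.le_of_dvd (by omega) h
        omega
      · rw [Nat.card_eq_fintype_card]
        intro h
        have := Nat.le_of_dvd (by omega) (Zs.dvd_succ hs h).1
        omega
    obtain ⟨x, hx, hxp⟩ := exists_sl (F := F) (m := 2) le_rfl hp2 hpq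
    obtain ⟨y, hy, hyc⟩ := exists_c_minus (c := c) a b hab (j := l - 2) (by omega)
    have hsq : s ∣ Fintype.card F ^ (l - 2 + 1) + 1 := by
      rw [show l - 2 + 1 = l - 1 by omega]
      have h1 : s ∣ Fintype.card F ^ (2 * (l - 1)) - 1 := (hs.iff _).2 dvd_rfl
      have h2 : Fintype.card F ^ (2 * (l - 1)) - 1 = (Fintype.card F ^ (l - 1) + 1) * (Fintype.card F ^ (l - 1) - 1) :=
        sq_sub _ _
      rw [h2] at h1
      refine (hs.prime.dvd_mul.1 h1).resolve_right fun h3 => ?_
      rw [hs.iff] at h3
      have := Nat.le_of_dvd (by omega) h3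
      omega
    obtain ⟨z, hz, hzs⟩ := exists_om a b hab (j := l - 2) (p := s) (by omega) hsq
    obtain ⟨u, hu⟩ := exists_prod_minus a b hab hl (k := 2) (j := l - 2) (by omega) hx hy
      (by rw [hxp, hyc]; exact (Nat.coprime_primes hp.out hc.out).2 hpc) (hodc hxp hyc)
    obtain ⟨v, hv⟩ := exists_prod_minus a b hab hl (k := 2) (j := l - 2) (by omega) hx hz
      (by rw [hxp, hzs]; exact (Nat.coprime_primes hp.out hs.prime).2 hsp.symm)
      (Or.inl (by rw [hxp, hzs]; exact hpodd.mul (hs.prime.odd_of_ne_two (by omega))))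
    rw [hxp, hyc] at hu
    rw [hxp, hzs] at hv
    exact hfin hs.prime hsc (by rw [hu]; exact dvd_mul_right _ _) hu hv hks
  by_cases he4 : e = 4 ∧ 4 ∣ l
  · -- `p ∣ q² + 1`, `4 ∣ l`
    obtain ⟨rfl, j₀, hj₀⟩ := he4
    have hpq : p ∣ Fintype.card F ^ (1 + 1) + 1 := by
      have h1 : p ∣ Fintype.card F ^ (2 * 2) - 1 := (he.iff _).2 (by norm_num)
      have h2 : Fintype.card F ^ (2 * 2) - 1 = (Fintype.card F ^ 2 + 1) * (Fintype.card F ^ 2 - 1) := sq_sub _ _
      rw [h2] at h1
      refine (hp.out.dvd_mul.1 h1).resolve_right fun h3 => ?_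
      rw [he.iff] at h3
      norm_num at h3
    have hodd : Odd (l - 1) := by
      rw [Nat.odd_iff]
      omega
    obtain ⟨s, hs⟩ := exists_zs_one (F := F) (e := l - 1) (by omega) (Or.inl hodd)
    have hsf : Fact s.Prime := ⟨hs.prime⟩
    have hs5 := hs.five
    have hsc : s ≠ c := Zs.ne_char (F := F) (by omega) hs
    have hsp : s ≠ p := by
      rintro rfl
      have h1 : s ∣ Fintype.card F ^ (l - 1) - 1 := (hs.iff _).2 dvd_rfl
      rw [he.iff] at h1
      have h2 : 2 ∣ l - 1 := (by norm_num : (2 : ℕ) ∣ 4).trans h1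
      obtain ⟨i, hi⟩ := hodd
      omega
    have hks : Kill (POmega F (quadFormMinus l F a b)) s := by
      refine kill_minus F (c := c) a b hab (k := l) (n := 0) rfl hl (by omega) (fun _ => hl) (fun _ h => by omega)
        (by omega) hsc ?_ (fun i hi => absurd hi (by omega)) ?_
      · rw [Nat.card_eq_fintype_card, hs.iff]
        intro h
        have h1 : l - 1 ∣ 1 := by
          have := Nat.dvd_sub h (dvd_refl (l - 1))
          rwa [show l - (l - 1) = 1 by omega] at this
        have := Nat.dvd_one.1 h1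
        omega
      · rw [Nat.card_eq_fintype_card]
        intro h
        have := Nat.le_of_dvd (by omega) (Zs.dvd_succ hs h).1
        omega
    obtain ⟨x, hx, hxp⟩ := exists_om a b hab (j := 1) (p := p) hp2 hpq
    obtain ⟨y, hy, hyc⟩ := exists_c_plus (F := F) (c := c) (k := l - 1) (by omega)
    obtain ⟨z, hz, hzs⟩ := exists_sl (F := F) (m := l - 1) (p := s) (by omega) (by omega) ((hs.iff _).2 dvd_rfl)
    obtain ⟨u, hu⟩ := exists_prod_minus a b hab hl (k := l - 1) (j := 1) (by omega) hy hx
      (by rw [hxp, hyc]; exact (Nat.coprime_primes hc.out hp.out).2 hpc.symm)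
      (by rw [mul_comm]; exact hodc hxp hyc)
    obtain ⟨v, hv⟩ := exists_prod_minus a b hab hl (k := l - 1) (j := 1) (by omega) hz hx
      (by rw [hxp, hzs]; exact (Nat.coprime_primes hs.prime hp.out).2 hsp)
      (Or.inl (by rw [hxp, hzs]; exact (hs.prime.odd_of_ne_two (by omega)).mul hpodd))
    rw [hxp, hyc, mul_comm] at hu
    rw [hxp, hzs, mul_comm] at hv
    exact hfin hs.prime hsc (by rw [hu]; exact dvd_mul_right _ _) hu hv hks
  · -- a character of defect zero
    have he3 : 3 ≤ e := by omega
    have hkill : Kill (POmega F (quadFormMinus l F a b)) p := by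
      by_cases hel : e ∣ l
      · -- `k = l - 1`
        have hq2 : Fintype.card F = 2 → 3 ≤ l - 1 := by
          intro hq
          by_contra h
          have hl3 : l = 3 := by omega
          subst hl3
          have he3' : e = 3 := by
            have := Nat.le_of_dvd (by norm_num) hel
            omega
          subst he3'
          have h7 : p ∣ Fintype.card F ^ 3 - 1 := (he.iff 3).2 dvd_rfl
          rw [hq] at h7
          have hp7 : p = 7 := (Nat.prime_dvd_prime_iff_eq hp.out (by norm_num)).1 (by norm_num at h7; exact h7)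
          subst hp7
          rw [hq] at hpprod
          norm_num [Finset.prod_range_succ] at hpprod
        refine kill_minus F (c := c) a b hab (k := l - 1) (n := 1) (by omega) hl (by omega)
          (fun h => hq2 (by rwa [Nat.card_eq_fintype_card] at h)) (fun _ _ => odd_one)
          hp2 hpc ?_ (fun i hi => ?_) ?_
        · rw [Nat.card_eq_fintype_card, he.iff]
          intro h
          have h1 : e ∣ 1 := by
            have := Nat.dvd_sub hel h
            rwa [show l - (l - 1) = 1 by omega] at this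
          have := Nat.dvd_one.1 h1
          omega
        · rw [Nat.card_eq_fintype_card, he.iff]
          intro h
          have := Nat.le_of_dvd (by omega) h
          omega
        · rw [Nat.card_eq_fintype_card]
          intro h
          have h1 : e ∣ 4 := (Zs.dvd_succ he h).1
          have h2 := Nat.le_of_dvd (by norm_num) h1
          have h3 : e ≠ 3 := by
            rintro rfl
            norm_num at h1
          have h4 : e = 4 := by omega
          exact he4 ⟨h4, h4 ▸ hel⟩
      · refine kill_minus F (c := c) a b hab (k := l) (n := 0) rfl hl (by omega) (fun _ => hl) (fun _ h => by omega)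
          hp2 hpc ?_ (fun i hi => absurd hi (by omega)) ?_
        · rwa [Nat.card_eq_fintype_card, he.iff]
        · rw [Nat.card_eq_fintype_card]
          intro h
          have := Nat.le_of_dvd (by omega) (Zs.dvd_succ he h).1
          omega
    obtain ⟨x, hx⟩ := exists_prime_orderOf_dvd_card' p hpd
    obtain ⟨y, hy1, hy2⟩ : ∃ y : POmega F (quadFormMinus l F a b), p ∣ orderOf y ∧ orderOf y ≠ p := by
      have hpce : ∀ y : POmega F (quadFormMinus l F a b), orderOf y = p * c → p ∣ orderOf y ∧ orderOf y ≠ p := by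
        intro y hy
        refine ⟨by rw [hy]; exact dvd_mul_right _ _, ?_⟩
        rw [hy]
        intro h
        have h1 : p * c = p * 1 := by rw [h, mul_one]
        exact hc.out.one_lt.ne' (Nat.eq_of_mul_eq_mul_left hp.out.pos h1)
      have hpve : ∀ (y : POmega F (quadFormMinus l F a b)) (v : ℕ), 2 ≤ v → orderOf y = p ^ v →
          p ∣ orderOf y ∧ orderOf y ≠ p := by
        intro y v hv hy
        refine ⟨by rw [hy]; exact dvd_pow_self p (by omega), ?_⟩
        rw [hy]
        intro h
        have h1 : p ^ v = p ^ 1 := by rw [h, pow_one]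
        have := Nat.pow_right_injective hp.out.two_le h1
        omega
      rcases Nat.even_or_odd e with heven | hodd
      · obtain ⟨η, hη⟩ := heven
        rw [← two_mul] at hη
        by_cases hηl : η ≤ l - 1
        · -- `O⁺ ⊥ O⁻_{2η}`
          have hpq : p ∣ Fintype.card F ^ (η - 1 + 1) + 1 := by
            rw [show η - 1 + 1 = η by omega]
            have h1 : p ∣ Fintype.card F ^ (2 * η) - 1 := (he.iff _).2 (by rw [hη])
            have h2 : Fintype.card F ^ (2 * η) - 1 = (Fintype.card F ^ η + 1) * (Fintype.card F ^ η - 1) := sq_sub _ _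
            rw [h2] at h1
            refine (hp.out.dvd_mul.1 h1).resolve_right fun h3 => ?_
            rw [he.iff] at h3
            have := Nat.le_of_dvd (by omega) h3
            omega
          obtain ⟨x, hx, hxp⟩ := exists_om a b hab (j := η - 1) (p := p) hp2 hpq
          obtain ⟨y, hy, hyc⟩ := exists_c_plus (F := F) (c := c) (k := l + 1 - η) (by omega)
          obtain ⟨u, hu⟩ := exists_prod_minus a b hab hl (k := l + 1 - η) (j := η - 1) (by omega) hy hx
            (by rw [hxp, hyc]; exact (Nat.coprime_primes hc.out hp.out).2 hpc.symm)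
            (by rw [mul_comm]; exact hodc hxp hyc)
          exact ⟨u, hpce u (by rw [hu, hxp, hyc, mul_comm])⟩
        · have h1 : ∀ P : Sylow p (POmega F (quadFormMinus l F a b)), IsCyclic P := fun P =>
            Cfsg.Agent.H124.Spec.cyc_omega (quadFormMinus l F a b) (e := e) hp2 he0 he.iff (by
              simp only [Fintype.card_sum, Fintype.card_fin]
              omega) P
          obtain ⟨y, v, hv, hy⟩ := exists_cyc h1 hd
          exact ⟨y, hpve y v hv hy⟩
      · -- `e` odd
        have hnd : ¬ p ∣ Fintype.card F ^ (l + 1) + 1 := by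
          intro h
          obtain ⟨h1, h2⟩ := Zs.dvd_succ he h
          exact h2 hq0 (Nat.Coprime.dvd_of_dvd_mul_left (by
            rw [Nat.coprime_comm, Nat.coprime_two_left]; exact hodd) h1)
        have hel : e ≤ l := by
          have h1 := pow_dvd_right hp.out hpprod hnd
          obtain ⟨i, hi, h2⟩ := (Prime.dvd_finset_prod_iff hp.out.prime _).1 ((dvd_pow_self p two_ne_zero).trans h1)
          rw [he.iff] at h2
          have h3 : e ∣ i + 1 := Nat.Coprime.dvd_of_dvd_mul_left (by
            rw [Nat.coprime_comm, Nat.coprime_two_left]; exact hodd) h2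
          have := Nat.le_of_dvd (by omega) h3
          rw [Finset.mem_range] at hi
          omega
        by_cases hel' : e = l
        · obtain ⟨g, v, hv, hg⟩ := exists_cyc_sl (F := F) (n := l) (hel' ▸ he) (by omega)
            (sq_dvd_of_odd he hodd hel' hnd hpprod)
          have hgo : orderOf (Jminus (F := F) l a b (lev l g)) = p ^ v := by
            rw [orderOf_injective _ (Jminus_injective l a b), orderOf_injective _ (lev_injective l), hg]
          have hodd' : Odd (orderOf (Jminus (F := F) l a b (lev l g))) := by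
            rw [hgo]; exact hpodd.pow
          have hcen := fun z hz => cen_minus F (m := l) (by omega) a b hab z hz
          have h1 : ∀ z : Omega F (quadFormMinus l F a b), omMat z = 1 → z = 1 := fun z hz =>
            Subtype.ext (Subtype.ext (Units.ext hz))
          obtain ⟨y, hy⟩ := exists_orderOf (F := F) (Q := quadFormMinus l F a b) (g := Jminus (F := F) l a b (lev l g))
            (fun z hz => by
              rcases hcen z hz with h2 | h2
              · rw [h1 z h2, one_pow]
              · apply h1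
                change (omMat z) ^ 2 = 1
                rw [h2, neg_one_sq])
            (Good.mem (minus_idx F a b hab hl) (Or.inr hodd')) (Or.inl hodd')
          exact ⟨y, hpve y v hv (by rw [hy, hgo])⟩
        · obtain ⟨x, hx, hxp⟩ := exists_sl (F := F) (m := e) (p := p) (by omega) hp2 ((he.iff _).2 dvd_rfl)
          obtain ⟨y, hy, hyc⟩ := exists_c_minus (c := c) a b hab (j := l - e) (by omega)
          obtain ⟨u, hu⟩ := exists_prod_minus a b hab hl (k := e) (j := l - e) (by omega) hx hy
            (by rw [hxp, hyc]; exact (Nat.coprime_primes hp.out hc.out).2 hpc) (hodc hxp hyc)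
          exact ⟨u, hpce u (by rw [hu, hxp, hyc])⟩
    refine TwoVan.of_order (x := x) (y := y) (by rw [hx]) hy1 (hkill.vz (by rw [hx])) (hkill.vz hy1) ?_
    rw [hx]
    exact hy2.symm

end

/-- **the row of `PΩ⁻_{2m}(q)`** -/
theorem row_minus {K : Type u} [Group K] [Finite K] [IsSimpleGroup K] {r : ℕ} (hr : r.Prime) (h : IsPOmegaMinusChar r K)
    {p : ℕ} [hp : Fact p.Prime] (h5 : 5 ≤ p) (hpr : p ≠ r) (hd : p ∣ Nat.card K) : Row p K := by
  have hkr : Kill K r := Cfsg.Agent.H620.RowClass.kill_of_lie hr (by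
    unfold IsLieTypeChar
    tauto)
  obtain ⟨F, _, _, _, m, a, b, hm, hab, ⟨f⟩⟩ := h
  have : Fact r.Prime := ⟨hr⟩
  by_cases h1 : (Nat.card K).factorization p = 1
  · exact Or.inl h1
  refine Or.inr (Or.inr ?_)
  have h2 : p ^ 2 ∣ Nat.card K := by
    rw [hp.out.pow_dvd_iff_le_factorization Nat.card_pos.ne']
    have := (hp.out.dvd_iff_one_le_factorization Nat.card_pos.ne').1 hd
    omega
  rw [Nat.card_congr f.toEquiv] at h2
  exact (model_minus (c := r) a b hab (l := m - 1) (by omega) (hkr.mulEquiv f) h5 hpr h2).mulEquiv f.symm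

end Cfsg.Agent.H724.VO
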