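import Cfsg.Agent.H724.VO.Orth
import Cfsg.Agent.S2469
import Cfsg.Agent.S2472
import Cfsg.Agent.S2474

/-!
# Vanishing elements of `PΩ_{2m+1}(q)` (helper724, S4987)

`row` : the row of `PΩ_{2m+1}(q)`.
-/

set_option autoImplicit false

open Cfsg

namespace Cfsg.Agent.H724.VO

open Cfsg.Agent.Characters Subgroup Cfsg.Agent.H620 Cfsg.Agent.H477.HC Cfsg.Agent.H387.VO
open Cfsg.Agent.H423.PGOrth Cfsg.Agent.H423.PGOrthS Cfsg.Agent.H484.SylNorm

universe u

/-- the order of `q` modulo `p` -/
theorem zs_of {q p : ℕ} [hp : Fact p.Prime] (h5 : 5 ≤ p) (hq : ¬ p ∣ q) : ∃ e, 0 < e ∧ e = orderOf ((q : ℕ) : ZMod p) ∧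
    Zs q 1 e p := by
  have hq0 : 1 ≤ q := Nat.one_le_iff_ne_zero.2 (by rintro rfl; exact hq (dvd_zero p))
  have h1 : ((q : ℕ) : ZMod p) ≠ 0 := by
    rw [Ne, ZMod.natCast_eq_zero_iff]; exact hq
  refine ⟨orderOf ((q : ℕ) : ZMod p), ?_, rfl, hp.out, h5, ?_, fun j => ?_⟩
  · rw [orderOf_pos_iff]
    exact isOfFinOrder_iff_pow_eq_one.2 ⟨p - 1, by omega, ZMod.pow_card_sub_one_eq_one h1⟩
  · intro h
    exact hp.out.one_lt.ne' (Nat.dvd_one.1 h)
  · exact Cfsg.Agent.Lib.Zsigmondy.dvd_pow_sub_one_iff hq0 j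

/-- powers of `p` in `∏ (q ^ 2i - 1)`, `e = m` odd -/
theorem sq_dvd_of_odd {q e p m : ℕ} (h : Zs q 1 e p) (he : Odd e) (hem : e = m) {C : ℕ} (hC : ¬ p ∣ C)
    (hd : p ^ 2 ∣ C * ∏ i ∈ Finset.range m, (q ^ (2 * (i + 1)) - 1)) : p ^ 2 ∣ q ^ m - 1 := by
  subst hem
  have h1 := pow_dvd_right h.prime hd hC
  obtain ⟨j, rfl⟩ : ∃ j, e = j + 1 := ⟨e - 1, by obtain ⟨k, hk⟩ := he; omega⟩
  rw [Finset.prod_range_succ] at h1
  have h2 := pow_dvd_right h.prime h1 (not_dvd_prod h.prime fun i hi h3 => by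
    rw [h.iff] at h3
    have h4 : j + 1 ∣ i + 1 := Nat.Coprime.dvd_of_dvd_mul_left (by
      rw [Nat.coprime_comm, Nat.coprime_two_left]; exact he) h3
    have h5 := Nat.le_of_dvd (by omega) h4
    rw [Finset.mem_range] at hi
    omega)
  have e1 : q ^ (2 * (j + 1)) - 1 = (q ^ (j + 1) + 1) * (q ^ (j + 1) - 1) := sq_sub _ _
  rw [e1] at h2
  refine pow_dvd_right h.prime h2 fun h3 => ?_
  have h4 : p ∣ q ^ (j + 1) - 1 := (h.iff _).2 dvd_rfl
  have h5 : p ∣ 2 := by
    by_cases hq : q = 0
    · subst hq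
      rw [zero_pow (by omega)] at h3
      exact (h.prime.one_lt.ne' (Nat.dvd_one.1 (by simpa using h3))).elim
    · have h6 : q ^ (j + 1) + 1 = (q ^ (j + 1) - 1) + 2 := by
        have : 1 ≤ q ^ (j + 1) := Nat.one_le_pow _ _ (by omega)
        omega
      rw [h6] at h3
      exact (Nat.dvd_add_right h4).1 h3
  have := Nat.le_of_dvd two_pos h5
  have := h.five
  omega

section
variable {F : Type u} [Field F] [Fintype F] {c : ℕ} [hc : Fact c.Prime] [CharP F c]

theorem model_odd {m : ℕ} (hm : 3 ≤ m) (ho : Odd (Fintype.card F)) (hk : Kill (POmega F (quadFormOdd m F)) c)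
    {p : ℕ} [hp : Fact p.Prime] (h5 : 5 ≤ p) (hpc : p ≠ c) (hd : p ^ 2 ∣ Nat.card (POmega F (quadFormOdd m F))) :
    TwoVan p (POmega F (quadFormOdd m F)) := by
  have hcq : ¬ p ∣ Fintype.card F := by
    rw [← Nat.card_eq_fintype_card]; exact ne_card F (p := c) hp.out hpc
  have ho' : Odd (Nat.card F) := by rwa [Nat.card_eq_fintype_card]
  obtain ⟨e, he0, hedef, he⟩ := zs_of h5 hcq
  have hcard := S0292.result (F := F) rfl ho m hm
  have hpd : p ∣ Nat.card (POmega F (quadFormOdd m F)) := (dvd_pow_self p two_ne_zero).trans hd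
  have hfin : Finite (POmega F (quadFormOdd m F)) := inferInstance
  have hp2 : p ≠ 2 := by omega
  have hpprod : p ^ 2 ∣ ∏ i ∈ Finset.range m, (Fintype.card F ^ (2 * (i + 1)) - 1) := by
    have h1 : p ^ 2 ∣ Fintype.card F ^ (m ^ 2) * ∏ i ∈ Finset.range m, (Fintype.card F ^ (2 * (i + 1)) - 1) := by
      rw [← hcard]; exact Dvd.dvd.mul_left hd _
    exact pow_dvd_right hp.out h1 fun h => hcq (hp.out.dvd_of_dvd_pow h)
  -- `η`
  obtain ⟨i, hi, hei⟩ : ∃ i < m, e ∣ 2 * (i + 1) := by
    obtain ⟨i, hi, h1⟩ := (Prime.dvd_finset_prod_iff hp.out.prime _).1 ((dvd_pow_self p two_ne_zero).trans hpprod)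
    exact ⟨i, Finset.mem_range.1 hi, (he.iff _).1 h1⟩
  obtain ⟨η, hη, hηm⟩ : ∃ η, ((Odd e ∧ η = e) ∨ (Even e ∧ 2 * η = e)) ∧ η ≤ m := by
    rcases Nat.even_or_odd e with h | h
    · obtain ⟨j, hj⟩ := h
      refine ⟨j, Or.inr ⟨⟨j, hj⟩, by omega⟩, ?_⟩
      have h2 : j ∣ i + 1 := by
        rw [hj, ← two_mul] at hei
        exact Nat.dvd_of_mul_dvd_mul_left two_pos hei
      have := Nat.le_of_dvd (by omega) h2
      omega
    · refine ⟨e, Or.inl ⟨h, rfl⟩, ?_⟩
      have h2 : e ∣ i + 1 := Nat.Coprime.dvd_of_dvd_mul_left (by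
        rw [Nat.coprime_comm, Nat.coprime_two_left]; exact h) hei
      have := Nat.le_of_dvd (by omega) h2
      omega
  -- primes dividing the order of the symplectic group
  have hsp : ∀ t : ℕ, t.Prime → t ≠ 2 → t ∣ ∏ i ∈ Finset.range m, (Fintype.card F ^ (2 * (i + 1)) - 1) →
      t ∣ Nat.card (PSp m F) := by
    intro t ht ht2 h
    have h1 := S0245.result (F := F) rfl m
    have h2 := S0246.result (F := F) rfl m (by omega)
    have h3 := Subgroup.card_eq_card_quotient_mul_card_subgroup (Subgroup.center (Matrix.symplecticGroup (Fin m) F))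
    rw [h1, h2] at h3
    have h4 : t ∣ Nat.card (Matrix.symplecticGroup (Fin m) F ⧸ Subgroup.center (Matrix.symplecticGroup (Fin m) F)) *
        Nat.gcd 2 (Fintype.card F - 1) := by
      rw [← h3]; exact Dvd.dvd.mul_left h _
    rcases ht.dvd_mul.1 h4 with h5 | h5
    · exact h5
    · exact absurd ((Nat.prime_dvd_prime_iff_eq ht Nat.prime_two).1 (h5.trans (Nat.gcd_dvd_left _ _))) ht2
  -- elements of order `p c`
  have hpcElt : η ≤ m - 1 → ∃ x : POmega F (quadFormOdd m F), orderOf x = p * c := by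
    intro hle
    have h1 := S2472.result (F := F) c m (by omega) (by omega) p hp.out hp2 hpc
      (hsp p hp.out hp2 ((dvd_pow_self p two_ne_zero).trans hpprod)) e η hedef hη
    have h2 : p * c ∈ Set.range (orderOf : PSp m F → ℕ) := by
      by_contra h
      have := h1.1 h
      omega
    exact (S2474.result (F := F) ho m hm p c hp.out hc.out hpc).2 h2
  by_cases hcase : e ≤ 2 ∧ e ∣ m
  · -- two elements
    obtain ⟨he2, hem⟩ := hcase
    obtain ⟨x, hx⟩ := hpcElt (by omega)
    have hη1 : η = 1 := by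
      rcases hη with ⟨⟨j, hj⟩, h2⟩ | ⟨⟨j, hj⟩, h2⟩ <;> omega
    obtain ⟨r, f, hr, hf, hF⟩ := Cfsg.Agent.H484.SylNorm.exists_card F
    have hro : Odd r := by
      rw [hF] at ho
      exact (Nat.odd_pow_iff (by omega)).mp ho
    obtain ⟨s, hs⟩ := exists_zs hr hf (e := 2 * (m - 1)) (by
      have : 2 * (m - 1) ≤ f * (2 * (m - 1)) := Nat.le_mul_of_pos_left _ hf
      omega) (by
      rintro ⟨rfl, -⟩
      exact absurd hro (by decide))
    rw [← hF] at hs
    have hsf : Fact s.Prime := ⟨hs.prime⟩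
    have hs5 := hs.five
    have hsp0 : s ≠ p := by
      rintro rfl
      have h1 : s ∣ Fintype.card F ^ e - 1 := (he.iff e).2 dvd_rfl
      rw [hs.iff] at h1
      have := Nat.le_of_dvd he0 h1
      omega
    have hsc : s ≠ c := by
      rintro rfl
      have h1 : s ∣ Fintype.card F ^ (2 * (m - 1)) - 1 := (hs.iff _).2 dvd_rfl
      have h2 : s ∣ Fintype.card F := by
        rw [← Nat.card_eq_fintype_card]
        obtain ⟨w, hw⟩ := card_pow F s
        rw [hw]
        refine dvd_pow_self s ?_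
        rintro rfl
        have h3 : 1 < Nat.card F := Finite.one_lt_card
        rw [hw, pow_zero] at h3
        exact lt_irrefl _ h3
      have h3 : s ∣ Fintype.card F ^ (2 * (m - 1)) := dvd_pow h2 (by omega)
      have h4 : 1 ≤ Fintype.card F ^ (2 * (m - 1)) := Nat.one_le_pow _ _ Fintype.card_pos
      have h5 : s ∣ 1 := by
        have := (Nat.dvd_sub h3 h1)
        rwa [Nat.sub_sub_self h4] at this
      exact hs.prime.one_lt.ne' (Nat.dvd_one.1 h5)
    have hkill : Kill (POmega F (quadFormOdd m F)) s := by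
      refine kill_odd F (c := c) (k := m) (n := 0) rfl ho' hm (by omega) (by omega) hsc ?_ (fun i hi => absurd hi (by omega))
      rw [Nat.card_eq_fintype_card, hs.iff]
      intro h
      have := Nat.le_of_dvd (by omega) h
      omega
    have hsd : s ∣ ∏ i ∈ Finset.range m, (Fintype.card F ^ (2 * (i + 1)) - 1) := by
      have h1 : s ∣ Fintype.card F ^ (2 * (m - 2 + 1)) - 1 := (hs.iff _).2 (by
        rw [show m - 2 + 1 = m - 1 by omega])
      exact h1.trans (Finset.dvd_prod_of_mem (fun i => Fintype.card F ^ (2 * (i + 1)) - 1)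
        (Finset.mem_range.2 (show m - 2 < m by omega)))
    have hps : p * s ∈ Set.range (orderOf : PSp m F → ℕ) := by
      by_contra h
      have hl : 2 * (m - 1) = orderOf ((Fintype.card F : ℕ) : ZMod s) := by
        apply Nat.dvd_antisymm
        · rw [← hs.iff, Cfsg.Agent.Lib.Zsigmondy.dvd_pow_sub_one_iff Fintype.card_pos]
        · rw [← Cfsg.Agent.Lib.Zsigmondy.dvd_pow_sub_one_iff Fintype.card_pos, hs.iff]
      have h1 := (S2469.result (F := F) c m (by omega) (by omega) p s hp.out hs.prime hp2 (by omega) hpc hsc hsp0.symm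
        (hsp p hp.out hp2 ((dvd_pow_self p two_ne_zero).trans hpprod)) (hsp s hs.prime (by omega) hsd)
        e (2 * (m - 1)) η (m - 1) hedef hl hη (Or.inr ⟨⟨m - 1, by ring⟩, rfl⟩) (by omega)).1 h
      omega
    obtain ⟨y, hy⟩ := (S2474.result (F := F) ho m hm p s hp.out hs.prime hsp0.symm).2 hps
    refine TwoVan.of_order (x := x) (y := y) (by rw [hx]; exact dvd_mul_right _ _) (by rw [hy]; exact dvd_mul_right _ _)
      (hk.vz (by rw [hx]; exact dvd_mul_left _ _)) (hkill.vz (by rw [hy]; exact dvd_mul_left _ _)) ?_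
    rw [hx, hy]
    intro h
    exact hsc (Nat.eq_of_mul_eq_mul_left hp.out.pos h).symm
  · -- a character of defect zero
    have hkill : Kill (POmega F (quadFormOdd m F)) p := by
      by_cases hem : e ∣ m
      · have he3 : 3 ≤ e := by
          by_contra h
          exact hcase ⟨by omega, hem⟩
        refine kill_odd F (c := c) (k := m - 1) (n := 1) (by omega) ho' hm (by omega) hp2 hpc ?_ (fun i hi => ?_)
        · rw [Nat.card_eq_fintype_card, he.iff]
          intro h
          have h1 : e ∣ 1 := by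
            have := Nat.dvd_sub hem h
            rwa [show m - (m - 1) = 1 by omega] at this
          have := Nat.dvd_one.1 h1
          omega
        · rw [Nat.card_eq_fintype_card, he.iff]
          intro h
          have := Nat.le_of_dvd (by omega) h
          omega
      · refine kill_odd F (c := c) (k := m) (n := 0) rfl ho' hm (by omega) hp2 hpc ?_ (fun i hi => absurd hi (by omega))
        rwa [Nat.card_eq_fintype_card, he.iff]
    obtain ⟨x, hx⟩ := exists_prime_orderOf_dvd_card' p hpd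
    obtain ⟨y, hy1, hy2⟩ : ∃ y : POmega F (quadFormOdd m F), p ∣ orderOf y ∧ orderOf y ≠ p := by
      by_cases hηm' : η ≤ m - 1
      · obtain ⟨y, hy⟩ := hpcElt hηm'
        refine ⟨y, by rw [hy]; exact dvd_mul_right _ _, ?_⟩
        rw [hy]
        intro h
        have h1 : p * c = p * 1 := by rw [h, mul_one]
        exact hc.out.one_lt.ne' (Nat.eq_of_mul_eq_mul_left hp.out.pos h1)
      · have hηm2 : η = m := by omega
        have key : ∃ y : POmega F (quadFormOdd m F), ∃ v, 2 ≤ v ∧ orderOf y = p ^ v := by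
          rcases hη with ⟨h1, h2⟩ | ⟨h1, h2⟩
          · -- `e = m` odd
            have hem : e = m := by omega
            obtain ⟨g, v, hv, hg⟩ := exists_cyc_sl (F := F) (n := m) (hem ▸ he) (by omega)
              (sq_dvd_of_odd he h1 hem (C := 1) (fun h => hp.out.one_lt.ne' (Nat.dvd_one.1 h)) (by rwa [one_mul]))
            have hgo : orderOf (Jodd (F := F) m (lev m g)) = p ^ v := by
              rw [orderOf_injective _ (Jodd_injective m), orderOf_injective _ (lev_injective m), hg]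
            have hodd : Odd (orderOf (Jodd (F := F) m (lev m g))) := by
              rw [hgo]; exact (hp.out.odd_of_ne_two hp2).pow
            obtain ⟨hidx, hcen⟩ := odd_idx F (p := c) ho' hm
            obtain ⟨y, hy⟩ := exists_orderOf (F := F) (Q := quadFormOdd m F) (g := Jodd (F := F) m (lev m g))
              (fun z hz => by rw [hcen z hz, one_pow])
              (Good.mem (by rw [hidx]; norm_num) (Or.inr hodd)) (Or.inl hodd)
            exact ⟨y, v, hv, by rw [hy, hgo]⟩
          · refine exists_cyc (fun P => Cfsg.Agent.H124.Spec.cyc_omega (quadFormOdd m F) (e := e) hp2 he0 he.iff ?_ P) hd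
            simp only [Fintype.card_sum, Fintype.card_fin, Fintype.card_unit]
            omega
        obtain ⟨y, v, hv, hy⟩ := key
        refine ⟨y, by rw [hy]; exact dvd_pow_self p (by omega), ?_⟩
        rw [hy]
        intro h
        have h1 : p ^ v = p ^ 1 := by rw [h, pow_one]
        have := Nat.pow_right_injective hp.out.two_le h1
        omega
    refine TwoVan.of_order (x := x) (y := y) (by rw [hx]) hy1 (hkill.vz (by rw [hx])) (hkill.vz hy1) ?_
    rw [hx]
    exact hy2.symm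

end

/-- **the row of `PΩ_{2m+1}(q)`** -/
theorem row_odd {K : Type u} [Group K] [Finite K] [IsSimpleGroup K] {r : ℕ} (hr : r.Prime) (h : IsPOmegaOddChar r K)
    {p : ℕ} [hp : Fact p.Prime] (h5 : 5 ≤ p) (hpr : p ≠ r) (hd : p ∣ Nat.card K) : Row p K := by
  have hkr : Kill K r := Cfsg.Agent.H620.RowClass.kill_of_lie hr (by
    unfold IsLieTypeChar
    tauto)
  obtain ⟨F, _, _, _, m, hm, ho, ⟨f⟩⟩ := h
  have : Fact r.Prime := ⟨hr⟩
  by_cases h1 : (Nat.card K).factorization p = 1
  · exact Or.inl h1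
  refine Or.inr (Or.inr ?_)
  have h2 : p ^ 2 ∣ Nat.card K := by
    rw [hp.out.pow_dvd_iff_le_factorization Nat.card_pos.ne']
    have := (hp.out.dvd_iff_one_le_factorization Nat.card_pos.ne').1 hd
    omega
  rw [Nat.card_congr f.toEquiv] at h2
  exact (model_odd (c := r) hm ho (hkr.mulEquiv f) h5 hpr h2).mulEquiv f.symm

end Cfsg.Agent.H724.VO
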