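import Cfsg.Agent.H387.VO.Main
import Cfsg.Agent.H620.RowClass
import Cfsg.Agent.H477.HC.RowO
import Cfsg.Agent.H477.HC.NPO
import Cfsg.Agent.H124.SpecClassical
import Cfsg.Agent.H423.PGOrth
import Cfsg.Agent.H423.PGOrthS

/-!
# Vanishing elements of the orthogonal groups (helper724, S4987): tools

* `kill_odd`, `kill_minus` : characters of defect zero;
* `exists_orderOf` : elements of `PΩ`;
* `exists_cyc` : cyclic Sylow subgroups;
* elements of order the characteristic, of `SL_n`.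
-/

set_option autoImplicit false

open Cfsg

namespace Cfsg.Agent.H724.VO

open Cfsg.Agent.Characters Subgroup Cfsg.Agent.H620 Cfsg.Agent.H477.HC Cfsg.Agent.H53.HC Cfsg.Agent.H671.H5
open Cfsg.Agent.H423.PGOrth Cfsg.Agent.H423.PGOrthS Cfsg.Agent.H484.SylNorm

universe u

/-- A character of degree divisible by the full power of `t`. -/
theorem kill_of_ch {S : Type*} [Group S] [Finite S] {t : ℕ} [Fact t.Prime] {N d : ℕ} (h : Ch S d)
    (hN : Nat.card S ∣ N) (hd : ∀ a, t ^ a ∣ N → t ^ a ∣ d) : Kill S t := by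
  obtain ⟨χ, hχ, h1⟩ := h
  exact kill_of_dvd t hχ d h1 (hd _ ((Nat.ordProj_dvd _ _).trans hN))

theorem pow_dvd_right {t a x y : ℕ} (ht : t.Prime) (h : t ^ a ∣ x * y) (hx : ¬ t ∣ x) : t ^ a ∣ y :=
  (Nat.Coprime.pow_left a ((Nat.Prime.coprime_iff_not_dvd ht).2 hx)).dvd_of_dvd_mul_left h

theorem pow_dvd_left {t a x y : ℕ} (ht : t.Prime) (h : t ^ a ∣ x * y) (hy : ¬ t ∣ y) : t ^ a ∣ x :=
  pow_dvd_right ht (by rwa [mul_comm]) hy

theorem not_dvd_prod {t : ℕ} (ht : t.Prime) {f : ℕ → ℕ} {s : Finset ℕ} (h : ∀ i ∈ s, ¬ t ∣ f i) :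
    ¬ t ∣ ∏ i ∈ s, f i := by
  intro h1
  obtain ⟨i, hi, h2⟩ := (Prime.dvd_finset_prod_iff ht.prime f).1 h1
  exact h i hi h2

section Kill
variable (K : Type u) [Field K] [Finite K] {c : ℕ} [Fact c.Prime] [CharP K c]

/-- defect zero in `Ω_{2m+1}(q)` -/
theorem kill_odd {m k n : ℕ} (hkn : k + n = m) (ho : Odd (Nat.card K)) (hm : 3 ≤ m) (hk : 2 ≤ k)
    {t : ℕ} [ht : Fact t.Prime] (ht2 : t ≠ 2) (htc : t ≠ c) (h1 : ¬ t ∣ Nat.card K ^ k - 1)
    (h3 : ∀ i < n, ¬ t ∣ Nat.card K ^ (2 * (i + 1)) - 1) : Kill (POmega K (quadFormOdd m K)) t := by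
  have h2 := two_ne_zero_of_odd (K := K) (p := c) ho
  obtain ⟨d, hd1, hd2, -⟩ := odd_ch K (p := c) hkn ho h2 hm hk
  obtain ⟨e, he⟩ := odd_dvd K h2 ho (p := c) (k := k) (n := n) (by omega)
  have hcard : Nat.card (POmega K (quadFormOdd m K)) ∣ 2 * Nat.card K ^ (m ^ 2) *
      ∏ i ∈ Finset.range m, (Nat.card K ^ (2 * (i + 1)) - 1) := by
    rw [← card_oddF K h2 ho, ← Nat.card_congr (isoQuad (CForm.oddF K m h2) (odd_hB K m h2)).toEquiv]
    exact card_pomega_dvd _
  refine kill_of_ch hd1 hcard fun a ha => ?_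
  have ha1 := pow_dvd_right ht.out ha (by
    intro h
    rcases ht.out.dvd_mul.1 h with h' | h'
    · exact ht2 ((Nat.prime_dvd_prime_iff_eq ht.out Nat.prime_two).1 h')
    · exact ne_card K (p := c) ht.out htc (ht.out.dvd_of_dvd_pow h'))
  rw [← hkn, ← Finset.prod_range_mul_prod_Ico _ (Nat.le_add_left n k)] at ha1
  have ha2 := pow_dvd_right ht.out ha1 (not_dvd_prod ht.out fun i hi => h3 i (Finset.mem_range.1 hi))
  have ha3 := prime_pow_dvd ht.out (Fact.out : c.Prime) htc (ha2.trans he)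
  exact hd2 t a ht.out ht2 (pow_dvd_left ht.out ha3 h1)

/-- defect zero in `Ω⁻_{2l+2}(q)` -/
theorem kill_minus (a b : K)
    (hab : ∀ z₁ z₂ : K, z₁ ^ 2 + a * z₁ * z₂ + b * z₂ ^ 2 = 0 → z₁ = 0 ∧ z₂ = 0) {l k n : ℕ} (hkn : k + n = l)
    (hl : 3 ≤ l) (hk : 2 ≤ k) (hk2 : Nat.card K = 2 → 3 ≤ k) (hk3 : Nat.card K = 3 → k = 2 → Odd n)
    {t : ℕ} [ht : Fact t.Prime] (ht2 : t ≠ 2) (htc : t ≠ c) (h1 : ¬ t ∣ Nat.card K ^ k - 1)
    (h3 : ∀ i < n, ¬ t ∣ Nat.card K ^ (2 * (i + 1)) - 1) (h4 : ¬ t ∣ Nat.card K ^ (n + 1) + 1) :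
    Kill (POmega K (quadFormMinus l K a b)) t := by
  obtain ⟨d, hd1, hd2, -⟩ := minus_ch K (p := c) a b hab hkn hl hk hk2 hk3
  obtain ⟨e, he⟩ := minus_dvd K (p := c) a b hab (k := k) (n := n) (by omega)
  have hcard : Nat.card (POmega K (quadFormMinus l K a b)) ∣ 2 * Nat.card K ^ ((l + 1) * l) *
      (Nat.card K ^ (l + 1) + 1) * ∏ i ∈ Finset.range l, (Nat.card K ^ (2 * (i + 1)) - 1) := by
    rw [← card_minusF K l a b hab, ← Nat.card_congr (isoQuad (CForm.minusF K l a b hab) (minus_hB K l a b hab)).toEquiv]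
    exact card_pomega_dvd _
  refine kill_of_ch hd1 hcard fun x ha => ?_
  rw [mul_assoc] at ha
  have ha1 := pow_dvd_right ht.out ha (by
    intro h
    rcases ht.out.dvd_mul.1 h with h' | h'
    · exact ht2 ((Nat.prime_dvd_prime_iff_eq ht.out Nat.prime_two).1 h')
    · exact ne_card K (p := c) ht.out htc (ht.out.dvd_of_dvd_pow h'))
  have e1 : (Nat.card K ^ (l + 1) + 1) * ∏ i ∈ Finset.range l, (Nat.card K ^ (2 * (i + 1)) - 1) =
      ((∏ i ∈ Finset.range n, (Nat.card K ^ (2 * (i + 1)) - 1)) * (Nat.card K ^ (n + 1) + 1)) *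
      ((Nat.card K ^ (k + n + 1) + 1) * (Nat.card K ^ (n + 1) - 1) *
        ∏ i ∈ Finset.Ico (n + 1) (k + n), (Nat.card K ^ (2 * (i + 1)) - 1)) := by
    rw [← hkn, ← Finset.prod_range_mul_prod_Ico _ (Nat.le_add_left n k),
      Finset.prod_eq_prod_Ico_succ_bot (show n < k + n by omega)]
    have : Nat.card K ^ (2 * (n + 1)) - 1 = (Nat.card K ^ (n + 1) + 1) * (Nat.card K ^ (n + 1) - 1) := sq_sub _ _
    rw [this]
    ring
  rw [e1] at ha1
  have ha2 := pow_dvd_right ht.out ha1 (by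
    intro h
    rcases ht.out.dvd_mul.1 h with h' | h'
    · exact not_dvd_prod ht.out (fun i hi => h3 i (Finset.mem_range.1 hi)) h'
    · exact h4 h')
  have ha3 := prime_pow_dvd ht.out (Fact.out : c.Prime) htc (ha2.trans he)
  exact hd2 t x ht.out ht2 (pow_dvd_left ht.out ha3 h1)

end Kill

section Elt
variable {F : Type u} [Field F] {ι : Type} [Fintype ι] [DecidableEq ι]

/-- elements of `PΩ` -/
theorem exists_orderOf {Q : (ι → F) → F} [Finite (isometryGroup F Q)]
    (hcen : ∀ z : Omega F Q, z ∈ center (Omega F Q) → z ^ 2 = 1)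
    {g : isometryGroup F Q} (hg : g ∈ Omega F Q)
    (h : Odd (orderOf g) ∨ ∀ z : Omega F Q, z ∈ center (Omega F Q) → z = 1) :
    ∃ y : POmega F Q, orderOf y = orderOf g := by
  let x : Omega F Q := ⟨g, hg⟩
  have hx : orderOf x = orderOf g := by
    rw [← Subgroup.orderOf_coe]
  refine ⟨QuotientGroup.mk' (center (Omega F Q)) x, ?_⟩
  rw [← hx] at h ⊢
  apply Nat.dvd_antisymm (orderOf_map_dvd _ _)
  set n := orderOf (QuotientGroup.mk' (center (Omega F Q)) x) with hn
  have h1 : x ^ n ∈ center (Omega F Q) := by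
    have := pow_orderOf_eq_one (QuotientGroup.mk' (center (Omega F Q)) x)
    rw [← hn, ← map_pow] at this
    exact (QuotientGroup.eq_one_iff _).1 this
  rcases h with h | h
  · have h2 := hcen _ h1
    rw [← pow_mul] at h2
    exact (Nat.Coprime.dvd_of_dvd_mul_right (by
      rw [Nat.coprime_comm, Nat.coprime_two_left]; exact h) (orderOf_dvd_of_pow_eq_one h2))
  · exact orderOf_dvd_of_pow_eq_one (h _ h1)

/-- an element good for `Ω` -/
def Good {G : Type*} [Group G] (g : G) : Prop := g ∈ commutator G ∨ Odd (orderOf g)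

theorem Good.map {G H : Type*} [Group G] [Group H] {g : G} (h : Good g) {f : G →* H}
    (hf : Function.Injective f) : Good (f g) := by
  rcases h with h | h
  · left
    have h1 : (commutator G).map f ≤ commutator H := by
      rw [commutator_def, commutator_def, Subgroup.map_commutator]
      exact Subgroup.commutator_mono le_top le_top
    exact h1 (Subgroup.mem_map_of_mem _ h)
  · right
    rwa [orderOf_injective f hf]

theorem Good.mem {Q : (ι → F) → F} (hidx : (Omega F Q).index ∣ 8) {g : isometryGroup F Q} (h : Good g) :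
    g ∈ Omega F Q := by
  rcases h with h | h
  · exact h
  · obtain ⟨k, -, hk⟩ := (Nat.dvd_prime_pow Nat.prime_two).1 (show (Omega F Q).index ∣ 2 ^ 3 from hidx)
    exact mem_of_odd hk h (pow_orderOf_eq_one g)

/-- products -/
theorem exists_prod {α β : Type} [Fintype α] [Fintype β] [DecidableEq α] [DecidableEq β] {e : α ⊕ β ≃ ι}
    {Qα : (α → F) → F} {R : (β → F) → F} {Q : (ι → F) → F} (hs : Spl e Qα R Q) [Finite (isometryGroup F Q)]
    (hidx : (Omega F Q).index ∣ 8) (hcen : ∀ z : Omega F Q, z ∈ center (Omega F Q) → z ^ 2 = 1)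
    {x : isometryGroup F Qα} {y : isometryGroup F R} (hx : Good x) (hy : Good y)
    (hco : (orderOf x).Coprime (orderOf y))
    (h : Odd (orderOf x * orderOf y) ∨ ∀ z : Omega F Q, z ∈ center (Omega F Q) → z = 1) :
    ∃ z : POmega F Q, orderOf z = orderOf x * orderOf y := by
  have hi := isoBlk_injective e hs
  have hx1 : isoBlk e hs (x, 1) ∈ Omega F Q := by
    refine Good.mem hidx ?_
    have := hx.map (f := (isoBlk e hs).comp (MonoidHom.inl _ _)) (fun a b hab => (Prod.ext_iff.1 (hi hab)).1)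
    exact this
  have hy1 : isoBlk e hs (1, y) ∈ Omega F Q := by
    refine Good.mem hidx ?_
    have := hy.map (f := (isoBlk e hs).comp (MonoidHom.inr _ _)) (fun a b hab => (Prod.ext_iff.1 (hi hab)).2)
    exact this
  have hxy : orderOf (isoBlk e hs (x, y)) = orderOf x * orderOf y := by
    rw [orderOf_injective _ hi, Prod.orderOf, hco.lcm_eq_mul]
  have hm : isoBlk e hs (x, y) ∈ Omega F Q := by
    have : isoBlk e hs (x, y) = isoBlk e hs (x, 1) * isoBlk e hs (1, y) := by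
      rw [← map_mul, Prod.mk_mul_mk, mul_one, one_mul]
    rw [this]
    exact mul_mem hx1 hy1
  rw [← hxy] at h ⊢
  exact exists_orderOf hcen hm h

end Elt

/-- cyclic Sylow subgroups -/
theorem exists_cyc {G : Type*} [Group G] [Finite G] {p : ℕ} [hp : Fact p.Prime]
    (hc : ∀ P : Sylow p G, IsCyclic P) (hd : p ^ 2 ∣ Nat.card G) :
    ∃ x : G, ∃ v, 2 ≤ v ∧ orderOf x = p ^ v := by
  obtain ⟨P⟩ : Nonempty (Sylow p G) := inferInstance
  have := hc P
  obtain ⟨g, hg⟩ := IsCyclic.exists_ofOrder_eq_natCard (α := P)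
  refine ⟨g, (Nat.card G).factorization p, ?_, ?_⟩
  · exact (hp.out.pow_dvd_iff_le_factorization Nat.card_pos.ne').1 hd
  · rw [Subgroup.orderOf_coe, hg, P.card_eq_multiplicity]

/-- elements of `SL_n(q)` of order `p ^ v` -/
theorem exists_cyc_sl {F : Type u} [Field F] [Fintype F] {p n : ℕ} [hp : Fact p.Prime] (h : Zs (Fintype.card F) 1 n p)
    (hn : 2 ≤ n) (hd : p ^ 2 ∣ Fintype.card F ^ n - 1) :
    ∃ x : Matrix.SpecialLinearGroup (Fin n) F, ∃ v, 2 ≤ v ∧ orderOf x = p ^ v := by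
  have h5 := h.five
  refine exists_cyc (p := p) (fun P => ?_) ?_
  · exact Cfsg.Agent.H124.LinCyc.isCyclic_sylow_of_gl (e := n) (F := F) (ι := Fin n) (by omega) (by omega) h.iff
      (by rw [Fintype.card_fin]; omega) Matrix.SpecialLinearGroup.toGL Matrix.SpecialLinearGroup.toGL_injective
      (MonoidHom.id _) Function.surjective_id P
  · refine hd.trans ?_
    have hq : 2 ≤ Fintype.card F := Fintype.one_lt_card
    have h1 := S0242.result (F := F) rfl n (by omega)
    have h0 : (⟨0, by omega⟩ : Fin n) ≠ ⟨n - 1, by omega⟩ := by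
      rw [Ne, Fin.mk.injEq]; omega
    have h2 : ∏ i ∈ ({⟨0, by omega⟩, ⟨n - 1, by omega⟩} : Finset (Fin n)), (Fintype.card F ^ n - Fintype.card F ^ (i : ℕ)) ∣
        ∏ i : Fin n, (Fintype.card F ^ n - Fintype.card F ^ (i : ℕ)) :=
      Finset.prod_dvd_prod_of_subset _ _ _ (Finset.subset_univ _)
    rw [Finset.prod_pair h0, ← h1] at h2
    have h3 : Fintype.card F ^ n - Fintype.card F ^ (n - 1) = Fintype.card F ^ (n - 1) * (Fintype.card F - 1) := by
      rw [Nat.mul_sub, mul_one, ← pow_succ, Nat.sub_add_cancel (by omega)]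
    change (Fintype.card F ^ n - Fintype.card F ^ 0) * (Fintype.card F ^ n - Fintype.card F ^ (n - 1)) ∣ _ at h2
    rw [h3, pow_zero, ← mul_assoc, mul_comm _ (Fintype.card F - 1)] at h2
    exact (Dvd.intro _ rfl).trans (Nat.dvd_of_mul_dvd_mul_left (by omega) h2)

end Cfsg.Agent.H724.VO
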