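import Cfsg.Agent.H724.VO.Odd

/-!
# Vanishing elements of `PΩ⁻_{2l+2}(q)` (helper724, S4987)

`row_minus` : the row of `PΩ⁻_{2m}(q)`.
-/

set_option autoImplicit false

open Cfsg

namespace Cfsg.Agent.H724.VO

open Cfsg.Agent.Characters Subgroup Cfsg.Agent.H620 Cfsg.Agent.H477.HC Cfsg.Agent.H387.VO
open Cfsg.Agent.H423.PG Cfsg.Agent.H423.PGPerf Cfsg.Agent.H423.PGOrth Cfsg.Agent.H423.PGOrthS
open Cfsg.Agent.H484.SylNorm

universe u

section
variable {F : Type u} [Field F] [Fintype F]

theorem dvd_card_sl {m : ℕ} (hm : 2 ≤ m) :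
    Fintype.card F ^ m - 1 ∣ Nat.card (Matrix.SpecialLinearGroup (Fin m) F) := by
  have hq : 2 ≤ Fintype.card F := Fintype.one_lt_card
  have h1 := S0242.result (F := F) rfl m (by omega)
  have h0 : (⟨0, by omega⟩ : Fin m) ≠ ⟨m - 1, by omega⟩ := by
    rw [Ne, Fin.mk.injEq]; omega
  have h2 : ∏ i ∈ ({⟨0, by omega⟩, ⟨m - 1, by omega⟩} : Finset (Fin m)), (Fintype.card F ^ m - Fintype.card F ^ (i : ℕ)) ∣
      ∏ i : Fin m, (Fintype.card F ^ m - Fintype.card F ^ (i : ℕ)) :=
    Finset.prod_dvd_prod_of_subset _ _ _ (Finset.subset_univ _)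
  rw [Finset.prod_pair h0, ← h1] at h2
  have h3 : Fintype.card F ^ m - Fintype.card F ^ (m - 1) = Fintype.card F ^ (m - 1) * (Fintype.card F - 1) := by
    rw [Nat.mul_sub, mul_one, ← pow_succ, Nat.sub_add_cancel (by omega)]
  change (Fintype.card F ^ m - Fintype.card F ^ 0) * (Fintype.card F ^ m - Fintype.card F ^ (m - 1)) ∣ _ at h2
  rw [h3, pow_zero, ← mul_assoc, mul_comm _ (Fintype.card F - 1)] at h2
  exact (Dvd.intro _ rfl).trans (Nat.dvd_of_mul_dvd_mul_left (by omega) h2)

/-- an element of prime order `p ∣ q ^ m - 1` of `O⁺_{2m}(q)` -/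
theorem exists_sl {m : ℕ} (hm : 2 ≤ m) {p : ℕ} [hp : Fact p.Prime] (hp2 : p ≠ 2) (h : p ∣ Fintype.card F ^ m - 1) :
    ∃ x : isometryGroup F (quadFormPlus m F), Good x ∧ orderOf x = p := by
  obtain ⟨g, hg⟩ := exists_prime_orderOf_dvd_card' p (h.trans (dvd_card_sl (F := F) hm))
  have h1 : orderOf (lev m g) = p := by rw [orderOf_injective _ (lev_injective m), hg]
  exact ⟨lev m g, Or.inr (by rw [h1]; exact hp.out.odd_of_ne_two hp2), h1⟩

/-- an element of prime order `p ∣ q ^ (j + 1) + 1` of `O⁻_{2j+2}(q)` -/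
theorem exists_om (a b : F) (hab : ∀ z₁ z₂ : F, z₁ ^ 2 + a * z₁ * z₂ + b * z₂ ^ 2 = 0 → z₁ = 0 ∧ z₂ = 0)
    {j p : ℕ} [hp : Fact p.Prime] (hp2 : p ≠ 2) (h : p ∣ Fintype.card F ^ (j + 1) + 1) :
    ∃ x : isometryGroup F (quadFormMinus j F a b), Good x ∧ orderOf x = p := by
  have h1 := S0288.result (F := F) rfl (j + 1) (by omega) a b hab
  rw [Nat.add_sub_cancel] at h1
  obtain ⟨g, hg⟩ := exists_prime_orderOf_dvd_card' (G := isometryGroup F (quadFormMinus j F a b)) p (by
    rw [h1]
    exact Dvd.dvd.mul_right (Dvd.dvd.mul_left h _) _)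
  exact ⟨g, Or.inr (by rw [hg]; exact hp.out.odd_of_ne_two hp2), hg⟩

variable {c : ℕ} [hc : Fact c.Prime] [CharP F c]

include hc in
/-- an element of order `c` of `O⁺_{2k}(q)` -/
theorem exists_c_plus {k : ℕ} (hk : 2 ≤ k) : ∃ x : isometryGroup F (quadFormPlus k F), Good x ∧ orderOf x = c := by
  obtain ⟨l, rfl⟩ : ∃ l, k = 2 + l := ⟨k - 2, by omega⟩
  have key : ∃ x : isometryGroup F (quadFormPlus 2 F), Good x ∧ orderOf x = c := by
    by_cases hc2 : c = 2
    · subst hc2
      have h2 : (2 : F) = 0 := by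
        have := CharP.cast_eq_zero F 2
        exact_mod_cast this
      obtain ⟨z, hz, hz2, hz1⟩ := exists_z (F := F) (Or.inl h2) (fun h3 _ => by
        have : (1 : F) = 3 - 2 := by norm_num
        rw [h3, h2, sub_self] at this
        exact one_ne_zero this)
      exact ⟨z, Or.inl hz, orderOf_eq_prime hz2 hz1⟩
    · have h1 : c ∣ Nat.card (Matrix.SpecialLinearGroup (Fin 2) F) := by
        have h2 := S0242.result (F := F) rfl 2 (by omega)
        rw [Fin.prod_univ_two] at h2
        obtain ⟨w, hw⟩ := card_pow F c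
        rw [Nat.card_eq_fintype_card] at hw
        have hw0 : w ≠ 0 := by
          rintro rfl
          have h3 : 1 < Fintype.card F := Fintype.one_lt_card
          rw [hw, pow_zero] at h3
          exact lt_irrefl _ h3
        have hcF : c ∣ Fintype.card F := by rw [hw]; exact dvd_pow_self c hw0
        have h3 : c ∣ (Fintype.card F - 1) * Nat.card (Matrix.SpecialLinearGroup (Fin 2) F) := by
          rw [h2]
          refine Dvd.dvd.mul_left (Nat.dvd_sub (dvd_pow hcF two_ne_zero) ?_) _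
          exact dvd_pow hcF (by norm_num)
        rcases hc.out.dvd_mul.1 h3 with h4 | h4
        · exfalso
          have h5 : c ∣ 1 := by
            have := Nat.dvd_sub hcF h4
            rwa [Nat.sub_sub_self Fintype.card_pos] at this
          exact hc.out.one_lt.ne' (Nat.dvd_one.1 h5)
        · exact h4
      obtain ⟨g, hg⟩ := exists_prime_orderOf_dvd_card' c h1
      have h1 : orderOf (lev 2 g) = c := by rw [orderOf_injective _ (lev_injective 2), hg]
      exact ⟨lev 2 g, Or.inr (by rw [h1]; exact hc.out.odd_of_ne_two hc2), h1⟩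
  obtain ⟨x, hx, hxc⟩ := key
  let T := (isoBlk _ (spl_plus (F := F) 2 l)).comp (MonoidHom.inl _ _)
  have hT : Function.Injective T := by
    intro x y h
    exact (Prod.ext_iff.1 (isoBlk_injective _ (spl_plus (F := F) 2 l) h)).1
  exact ⟨T x, hx.map hT, by rw [orderOf_injective _ hT, hxc]⟩

include hc in
/-- an element of order `c` of `O⁻_{2j+2}(q)`, `j ≥ 1` -/
theorem exists_c_minus (a b : F) (hab : ∀ z₁ z₂ : F, z₁ ^ 2 + a * z₁ * z₂ + b * z₂ ^ 2 = 0 → z₁ = 0 ∧ z₂ = 0)
    {j : ℕ} (hj : 1 ≤ j) : ∃ x : isometryGroup F (quadFormMinus j F a b), Good x ∧ orderOf x = c := by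
  obtain ⟨l, rfl⟩ : ∃ l, j = l + 1 := ⟨j - 1, by omega⟩
  have key : ∃ x : isometryGroup F (quadFormMinus 1 F a b), Good x ∧ orderOf x = c := by
    obtain ⟨w, hw⟩ := card_pow F c
    rw [Nat.card_eq_fintype_card] at hw
    have hw0 : w ≠ 0 := by
      rintro rfl
      have h3 : 1 < Fintype.card F := Fintype.one_lt_card
      rw [hw, pow_zero] at h3
      exact lt_irrefl _ h3
    have hf : Fintype (GaloisField c (w * 2)) := Fintype.ofFinite _
    have hK : Fintype.card (GaloisField c (w * 2)) = Fintype.card F ^ 2 := by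
      rw [← Nat.card_eq_fintype_card, GaloisField.card c (w * 2) (by omega), hw, pow_mul]
    obtain ⟨e⟩ := Cfsg.Agent.S0300.result (F := F) (K := GaloisField c (w * 2)) rfl hK a b hab
    have h4 : 4 ≤ Fintype.card (GaloisField c (w * 2)) := by
      rw [hK]
      have h3 : 1 < Fintype.card F := Fintype.one_lt_card
      nlinarith
    have h1 : c ∣ Nat.card (Omega F (quadFormMinus 1 F a b)) := by
      have h2 := dvd_card_psl2 h4 hc.out (Dvd.dvd.mul_right (by
        rw [hK, hw, ← pow_mul]; exact dvd_pow_self c (by omega)) _)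
      rw [← Nat.card_congr e.toEquiv] at h2
      exact h2.trans (Subgroup.card_quotient_dvd_card _)
    obtain ⟨g, hg⟩ := exists_prime_orderOf_dvd_card' c h1
    exact ⟨g.1, Or.inl g.2, by rw [Subgroup.orderOf_coe, hg]⟩
  obtain ⟨x, hx, hxc⟩ := key
  let T := (isoBlk _ (spl_minus' (F := F) l 1 a b)).comp (MonoidHom.inr _ _)
  have hT : Function.Injective T := by
    intro x y h
    exact (Prod.ext_iff.1 (isoBlk_injective _ (spl_minus' (F := F) l 1 a b) h)).2
  exact ⟨T x, hx.map hT, by rw [orderOf_injective _ hT, hxc]⟩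

/-- products in `PΩ⁻` -/
theorem exists_prod_minus (a b : F) (hab : ∀ z₁ z₂ : F, z₁ ^ 2 + a * z₁ * z₂ + b * z₂ ^ 2 = 0 → z₁ = 0 ∧ z₂ = 0)
    {k j l : ℕ} (hl : 3 ≤ l) (hkj : k + j = l) {x : isometryGroup F (quadFormPlus k F)}
    {y : isometryGroup F (quadFormMinus j F a b)} (hx : Good x) (hy : Good y)
    (hco : (orderOf x).Coprime (orderOf y)) (h : Odd (orderOf x * orderOf y) ∨ (2 : F) = 0) :
    ∃ z : POmega F (quadFormMinus l F a b), orderOf z = orderOf x * orderOf y := by
  subst hkj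
  have hcen := fun z hz => cen_minus F (m := k + j) (by omega) a b hab z hz
  have h1 : ∀ z : Omega F (quadFormMinus (k + j) F a b), omMat z = 1 → z = 1 := fun z hz =>
    Subtype.ext (Subtype.ext (Units.ext hz))
  refine exists_prod (spl_minus' (F := F) k j a b) (minus_idx F a b hab hl) (fun z hz => ?_) hx hy hco ?_
  · rcases hcen z hz with h2 | h2
    · rw [h1 z h2, one_pow]
    · apply h1
      change (omMat z) ^ 2 = 1
      rw [h2, neg_one_sq]
  · rcases h with h | h
    · exact Or.inl h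
    · refine Or.inr fun z hz => ?_
      rcases hcen z hz with h2 | h2
      · exact h1 z h2
      · apply h1
        rw [h2]
        ext i j
        rw [Matrix.neg_apply]
        have h3 : (1 : F) + 1 = 0 := by rw [← h]; norm_num
        by_cases hij : i = j
        · rw [hij, Matrix.one_apply_eq]
          exact (eq_neg_of_add_eq_zero_left h3).symm
        · rw [Matrix.one_apply_ne hij, neg_zero]

end

end Cfsg.Agent.H724.VO
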